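import Cfsg.Agent.PSLThreeSub.Goal
import Cfsg.Agent.PGLThree.Endgame

/-!
# The automorphisms induced on a small simple quotient
-/

set_option autoImplicit false
set_option linter.unusedSectionVars false
set_option linter.style.haveILetI false

namespace CfsgLib.PSLThreeSub

open Matrix Cfsg.Geo CfsgLib.Aschbacher PGLThree
open scoped commutatorElement

variable {E : Type*} [Field E] {H P : Subgroup (GL (Fin 3) E)} {T : Type*} [Group T]

/-- The element `h x h⁻¹` of the core. -/
def conjP (hr : Red H P) (h : H) (x : P) : P := ⟨(h : GL (Fin 3) E) * x * (h : GL (Fin 3) E)⁻¹, hr.normed h h.2 x x.2⟩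

theorem conjP_mul (hr : Red H P) (h : H) (x y : P) : conjP hr h (x * y) = conjP hr h x * conjP hr h y := by
  apply Subtype.ext
  simp only [conjP, Subgroup.coe_mul]
  group

theorem conjP_conjP (hr : Red H P) (h k : H) (x : P) : conjP hr h (conjP hr k x) = conjP hr (h * k) x := by
  apply Subtype.ext
  simp only [conjP, Subgroup.coe_mul]
  group

theorem conjP_one (hr : Red H P) (x : P) : conjP hr 1 x = x := by
  apply Subtype.ext
  simp [conjP]

theorem conjP_pow (hr : Red H P) (h : H) (x : P) (n : ℕ) : conjP hr h (x ^ n) = conjP hr h x ^ n :=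
  map_pow (MonoidHom.mk' (M := P) (G := P) (conjP hr h) (conjP_mul hr h)) x n

theorem trc_conjP (hr : Red H P) (h : H) (x : P) : trc (conjP hr h x) = trc x :=
  trace_conj _ _

/-- The action of `H` on a copy `T` of the simple quotient. -/
theorem exists_action (hr : Red H P) (e : (P ⧸ Z P) ≃* T) :
    ∃ ρ : H →* MulAut T, ρ.ker = (scalars (Fin 3) E).subgroupOf H ∧
      (∀ h x, ρ h (e (proj P x)) = e (proj P (conjP hr h x))) ∧ ∀ t : T, MulAut.conj t ∈ ρ.range := by
  let f : H → P →* P := fun h => MonoidHom.mk' (conjP hr h) (conjP_mul hr h)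
  have hZ : ∀ h, Z P ≤ (Z P).comap (f h) := fun h z hz => by
    have hz' : (z : GL (Fin 3) E) ∈ scalars (Fin 3) E := hz
    show conjP hr h z ∈ Z P
    refine Subgroup.mem_subgroupOf.2 ?_
    show (h : GL (Fin 3) E) * z * (h : GL (Fin 3) E)⁻¹ ∈ scalars (Fin 3) E
    rw [conj_scalar hz']; exact hz'
  let g : H → (P ⧸ Z P) →* (P ⧸ Z P) := fun h => QuotientGroup.map (Z P) (Z P) (f h) (hZ h)
  have hg : ∀ h x, g h (proj P x) = proj P (conjP hr h x) := fun h x => rfl
  have hgg : ∀ h k s, g h (g k s) = g (h * k) s := by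
    intro h k s
    obtain ⟨x, rfl⟩ := QuotientGroup.mk'_surjective (Z P) s
    rw [hg, hg, hg, conjP_conjP]
  have hg1 : ∀ s, g 1 s = s := by
    intro s
    obtain ⟨x, rfl⟩ := QuotientGroup.mk'_surjective (Z P) s
    rw [hg, conjP_one]
  let a : H → MulAut (P ⧸ Z P) := fun h =>
    { toFun := g h
      invFun := g h⁻¹
      left_inv := fun s => by rw [hgg, inv_mul_cancel, hg1]
      right_inv := fun s => by rw [hgg, mul_inv_cancel, hg1]
      map_mul' := map_mul (g h) }
  let ρ : H →* MulAut T := MonoidHom.mk' (fun h => e.symm.trans ((a h).trans e)) fun h k => by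
    ext1 t
    show e (g (h * k) (e.symm t)) = e (g h (e.symm (e (g k (e.symm t)))))
    rw [e.symm_apply_apply, hgg]
  have hρ : ∀ h x, ρ h (e (proj P x)) = e (proj P (conjP hr h x)) := fun h x => by
    show e (g h (e.symm (e (proj P x)))) = _
    rw [e.symm_apply_apply, hg]
  refine ⟨ρ, ?_, hρ, fun t => ?_⟩
  · ext h
    rw [MonoidHom.mem_ker, Subgroup.mem_subgroupOf]
    constructor
    · intro hh
      refine hr.cent h h.2 fun x hx => ?_
      have e1 := hρ h ⟨x, hx⟩
      rw [hh, MulAut.one_apply] at e1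
      have e2 : proj P (conjP hr h ⟨x, hx⟩ * ⟨x, hx⟩⁻¹) = 1 := by
        rw [map_mul, map_inv, ← e.injective e1, mul_inv_cancel]
      exact Subgroup.mem_subgroupOf.1 (proj_eq_one_iff.1 e2)
    · intro hh
      ext1 t
      obtain ⟨s, rfl⟩ := e.surjective t
      obtain ⟨x, rfl⟩ := QuotientGroup.mk'_surjective (Z P) s
      rw [hρ, MulAut.one_apply]
      congr 2
      apply Subtype.ext
      show (h : GL (Fin 3) E) * x * (h : GL (Fin 3) E)⁻¹ = x
      rw [scalars_comm hh, mul_inv_cancel_right]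
  · obtain ⟨s, rfl⟩ := e.surjective t
    obtain ⟨x, rfl⟩ := QuotientGroup.mk'_surjective (Z P) s
    refine ⟨⟨(x : GL (Fin 3) E), hr.le x.2⟩, ?_⟩
    ext1 t'
    obtain ⟨s', rfl⟩ := e.surjective t'
    obtain ⟨y, rfl⟩ := QuotientGroup.mk'_surjective (Z P) s'
    rw [hρ, MulAut.conj_apply, ← map_inv, ← map_inv, ← map_mul, ← map_mul, ← map_mul, ← map_mul]
    rfl

/-- The copy has a trivial centre. -/
theorem center_eq_bot (hc : Core P) (e : (P ⧸ Z P) ≃* T) : Subgroup.center T = ⊥ := by
  haveI := hc.simple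
  rcases (inferInstance : (Subgroup.center (P ⧸ Z P)).Normal).eq_bot_or_eq_top with h | h
  · refine (Subgroup.eq_bot_iff_forall _).2 fun t ht => ?_
    have : e.symm t ∈ Subgroup.center (P ⧸ Z P) := Subgroup.mem_center_iff.2 fun s =>
      e.injective (by rw [map_mul, map_mul, e.apply_symm_apply, Subgroup.mem_center_iff.1 ht])
    rw [h, Subgroup.mem_bot] at this
    simpa using congrArg e this
  · exact absurd ⟨⟨fun a b => (Subgroup.mem_center_iff.1 (h ▸ Subgroup.mem_top b) a)⟩⟩ hc.nonabelian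

theorem conj_injective (hZ : Subgroup.center T = ⊥) : Function.Injective (MulAut.conj : T →* MulAut T) := by
  rw [injective_iff_map_eq_one]
  intro t ht
  have : t ∈ Subgroup.center T := Subgroup.mem_center_iff.2 fun s => by
    have := DFunLike.congr_fun ht s
    rw [MulAut.conj_apply, MulAut.one_apply, mul_inv_eq_iff_eq_mul] at this
    exact this.symm
  rwa [hZ, Subgroup.mem_bot] at this

/-- Only inner automorphisms. -/
theorem equiv_of_inner (hZ : Subgroup.center T = ⊥) (ρ : H →* MulAut T)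
    (hker : ρ.ker = (scalars (Fin 3) E).subgroupOf H) (hinn : ∀ t : T, MulAut.conj t ∈ ρ.range)
    (hle : ρ.range ≤ (MulAut.conj : T →* MulAut T).range) : Nonempty (Cfsg.projQuot H ≃* T) := by
  have he : ρ.range = (MulAut.conj : T →* MulAut T).range :=
    le_antisymm hle (by rintro _ ⟨t, rfl⟩; exact hinn t)
  exact ⟨(QuotientGroup.quotientMulEquivOfEq hker.symm).trans ((QuotientGroup.quotientKerEquivRange ρ).trans
    ((MulEquiv.subgroupCongr he).trans (MonoidHom.ofInjective (conj_injective hZ)).symm))⟩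

/-- Inner automorphisms and one coset. -/
theorem index_two_of_outer (hZ : Subgroup.center T = ⊥) (ρ : H →* MulAut T)
    (hker : ρ.ker = (scalars (Fin 3) E).subgroupOf H) (hinn : ∀ t : T, MulAut.conj t ∈ ρ.range)
    {f : MulAut T} (hf : f ∈ ρ.range) (hfn : f ∉ (MulAut.conj : T →* MulAut T).range)
    (htwo : ∀ g ∈ ρ.range, g ∉ (MulAut.conj : T →* MulAut T).range →
      g * f ∈ (MulAut.conj : T →* MulAut T).range) :
    ∃ L : Subgroup (Cfsg.projQuot H), L.index = 2 ∧ Nonempty (↥L ≃* T) := by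
  set I := (MulAut.conj : T →* MulAut T).range with hI
  have hle : I ≤ ρ.range := by rintro _ ⟨t, rfl⟩; exact hinn t
  let e : Cfsg.projQuot H ≃* ρ.range :=
    (QuotientGroup.quotientMulEquivOfEq hker.symm).trans (QuotientGroup.quotientKerEquivRange ρ)
  have hidx : (I.subgroupOf ρ.range).index = 2 := by
    rw [Subgroup.index_eq_two_iff]
    refine ⟨⟨f, hf⟩, fun g => ?_⟩
    by_cases hg : (g : MulAut T) ∈ I
    · refine Or.inr ⟨hg, fun h => hfn ?_⟩
      have := I.mul_mem (I.inv_mem hg) (show (g : MulAut T) * f ∈ I from h)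
      rwa [inv_mul_cancel_left] at this
    · exact Or.inl ⟨htwo g g.2 hg, fun h => hg h⟩
  refine ⟨(I.subgroupOf ρ.range).comap e.toMonoidHom, ?_, ⟨?_⟩⟩
  · rw [Subgroup.index_comap_of_surjective _ e.surjective, hidx]
  · exact (MulEquiv.subgroupCongr (Subgroup.comap_equiv_eq_map_symm e _)).trans
      ((e.symm.subgroupMap (I.subgroupOf ρ.range)).symm.trans
        ((Subgroup.subgroupOfEquivOfLe hle).trans (MonoidHom.ofInjective (conj_injective hZ)).symm))

/-- Two lifts of one element of order prime to three are equal. -/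
theorem lift_unique (hc : Core P) {x y : P} {n : ℕ} (h3 : Nat.Coprime n 3) (hx : x ^ n = 1)
    (hy : y ^ n = 1) (h : proj P x = proj P y) : x = y := by
  have hz : x⁻¹ * y ∈ Z P := proj_eq_one_iff.1 (by rw [map_mul, map_inv, h, inv_mul_cancel])
  have hcomm : Commute x (x⁻¹ * y) := (comm_of_mem_Z hz x).symm
  have h1 : (x⁻¹ * y) ^ n = 1 := by
    have e := hcomm.mul_pow n
    rw [mul_inv_cancel_left, hy, hx, one_mul] at e
    exact e.symm
  have h2 := Nat.dvd_gcd (orderOf_dvd_of_pow_eq_one h1) (orderOf_dvd_of_pow_eq_one (hc.pow_three hz))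
  rw [h3.gcd_eq_one, Nat.dvd_one, orderOf_eq_one_iff, inv_mul_eq_one] at h2
  exact h2

/-- Traces are kept by the action. -/
theorem trc_eq_of_action (hr : Red H P) (e : (P ⧸ Z P) ≃* T) (ρ : H →* MulAut T)
    (hρ : ∀ h x, ρ h (e (proj P x)) = e (proj P (conjP hr h x))) {f : MulAut T} (hf : f ∈ ρ.range)
    {x y : P} {n : ℕ} (h3 : Nat.Coprime n 3) (hx : x ^ n = 1) (hy : y ^ n = 1)
    (h : IsConj (e (proj P y)) (f (e (proj P x)))) : trc x = trc y := by
  obtain ⟨g, rfl⟩ := hf
  rw [hρ] at h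
  obtain ⟨c, hc⟩ := isConj_iff.1 h
  obtain ⟨s, rfl⟩ := e.surjective c
  obtain ⟨k, rfl⟩ := QuotientGroup.mk'_surjective (Z P) s
  rw [← map_inv, ← map_inv, ← map_mul, ← map_mul, ← map_mul, ← map_mul] at hc
  have e1 := lift_unique hr.core h3 (by rw [conj_pow, hy]; group)
    (by rw [← conjP_pow, hx]; apply Subtype.ext; simp [conjP]) (e.injective hc)
  rw [← trc_conjP hr g x, ← e1]
  exact (trc_conj (isConj_iff.2 ⟨k, rfl⟩)).symm

variable [Fintype E]

/-- An element of prime order `n > 3` with trace equal to those of its inverse and square. -/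
theorem eq_one_of_trc (p : ℕ) [hp : Fact p.Prime] [CharP E p] (hc : Core P) {u : P} {n : ℕ} (hn : n.Prime)
    (h3 : 3 < n) (hnp : n ≠ p) (hu : u ^ n = 1) (hinv : trc u⁻¹ = trc u) (hsq' : trc (u ^ 2) = trc u) :
    u = 1 := by
  obtain ⟨hsq, hcay⟩ := trc_sq hc u
  rw [hinv] at hsq hcay
  rw [hsq'] at hsq
  set M := mat (u : GL (Fin 3) E) with hM
  have hMn : M ^ n = 1 := by
    show ((u : GL (Fin 3) E) : Matrix (Fin 3) (Fin 3) E) ^ n = 1
    rw [← Units.val_pow_eq_pow_val, ← SubmonoidClass.coe_pow, hu]; rfl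
  refine Subtype.ext (Units.ext (show M = 1 from ?_))
  have ht : trc u * (trc u - 3) = 0 := by linear_combination -hsq
  obtain ⟨m, hm, hco⟩ : ∃ m : ℕ, M ^ m = 1 ∧ Nat.Coprime m n := by
    rcases (mul_eq_zero.1 ht).imp id sub_eq_zero.1 with ht | ht <;> rw [ht] at hcay
    · refine ⟨3, ?_, (Nat.coprime_primes Nat.prime_three hn).2 (by omega)⟩
      rwa [zero_smul, zero_smul, sub_zero, add_zero, sub_eq_zero] at hcay
    · have hN : (M - 1) ^ 3 = 0 := by
        rw [← hcay, show (3 : E) • M ^ 2 = (3 : ℕ) • M ^ 2 by rw [← Nat.cast_smul_eq_nsmul E]; norm_num,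
          show (3 : E) • M = (3 : ℕ) • M by rw [← Nat.cast_smul_eq_nsmul E]; norm_num]
        noncomm_ring
      have hk : 3 ≤ p ^ 2 := by have := hp.out.two_le; nlinarith
      haveI : ExpChar E p := ExpChar.prime hp.out
      haveI : CharP (Matrix (Fin 3) (Fin 3) E) p := inferInstance
      refine ⟨p ^ 2, ?_, Nat.Coprime.pow_left 2 ((Nat.coprime_primes hp.out hn).2 (Ne.symm hnp))⟩
      have h := sub_pow_char_pow_of_commute (p := p) (n := 2) (Commute.one_right M)
      rw [one_pow, pow_eq_zero_of_le hk hN] at h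
      exact (sub_eq_zero.1 h.symm)
  have h1 := Nat.dvd_gcd (orderOf_dvd_of_pow_eq_one hm) (orderOf_dvd_of_pow_eq_one hMn)
  rw [hco.gcd_eq_one, Nat.dvd_one] at h1
  exact orderOf_eq_one_iff.1 h1

end CfsgLib.PSLThreeSub
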