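import Cfsg.Agent.LocalEven49.AltSixOddAut

/-!
# The outer automorphisms of `A₆` on a Sylow three subgroup and an element of order five
-/

set_option autoImplicit false
set_option linter.unusedSectionVars false

namespace CfsgLib.PSLThreeSub

open Equiv Equiv.Perm

/-- `(0 1 2)`. -/
def a6 : alternatingGroup (Fin 6) := ⟨c[0, 1, 2], by rw [Perm.mem_alternatingGroup]; decide +kernel⟩

/-- `(3 4 5)`. -/
def b6 : alternatingGroup (Fin 6) := ⟨c[3, 4, 5], by rw [Perm.mem_alternatingGroup]; decide +kernel⟩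

/-- `(0 1 2 3 4)`. -/
def x6 : alternatingGroup (Fin 6) := ⟨c[0, 1, 2, 3, 4], by rw [Perm.mem_alternatingGroup]; decide +kernel⟩

theorem ab_comm : a6 * b6 = b6 * a6 := by decide +kernel

theorem ab_indep : ∀ i j k l : Fin 3, (i, j) ≠ (k, l) →
    (a6 ^ (i : ℕ) * b6 ^ (j : ℕ) * (a6 ^ (k : ℕ) * b6 ^ (l : ℕ))⁻¹) ^ 3 = 1 ∧
      a6 ^ (i : ℕ) * b6 ^ (j : ℕ) * (a6 ^ (k : ℕ) * b6 ^ (l : ℕ))⁻¹ ≠ 1 := by
  decide +kernel

theorem orders : (a6 * x6) ^ 5 = 1 ∧ (b6 * x6) ^ 4 = 1 ∧ x6 ^ 5 = 1 ∧ x6 ≠ 1 := by decide +kernel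

theorem supports : (a6 : Perm (Fin 6)).support.card = 3 ∧ (b6 : Perm (Fin 6)).support.card = 3 ∧
    ((a6 * b6 : alternatingGroup (Fin 6)) : Perm (Fin 6)).support.card ≠ 3 := by
  decide +kernel

theorem exists_conj_ab : ∀ d : alternatingGroup (Fin 6), d ^ 3 = 1 → d ≠ 1 →
    (d : Perm (Fin 6)).support.card ≠ 3 → ∃ g, g * (a6 * b6) * g⁻¹ = d := by
  decide +kernel

set_option synthInstance.maxSize 2000 in
theorem second_image : ∀ b' : alternatingGroup (Fin 6), b' ^ 3 = 1 → b' ≠ 1 →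
    (b' : Perm (Fin 6)).support.card ≠ 3 → b' * (a6 * b6) = a6 * b6 * b' →
    b' = a6 * b6 ∨ b' = (a6 * b6)⁻¹ ∨ b' = a6 * b6⁻¹ ∨ b' = a6⁻¹ * b6 := by
  decide +kernel

set_option synthInstance.maxSize 2000 in
theorem five_image : ∀ y : alternatingGroup (Fin 6), y ^ 5 = 1 → y ≠ 1 → (a6 * b6 * y) ^ 5 = 1 →
    (a6 * b6⁻¹ * y) ^ 4 = 1 → ∃ g, g * x6 ^ 2 * g⁻¹ = y := by
  decide +kernel

theorem swap_image : MulAut.conjNormal (H := alternatingGroup (Fin 6)) (swap 1 2) a6 = a6⁻¹ ∧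
    MulAut.conjNormal (H := alternatingGroup (Fin 6)) (swap 1 2) b6 = b6 :=
  ⟨Subtype.ext (by rw [MulAut.conjNormal_apply]; decide +kernel),
    Subtype.ext (by rw [MulAut.conjNormal_apply]; decide +kernel)⟩

theorem pow_conj_six {f : MulAut (alternatingGroup (Fin 6))} (hf : ((f a6 : alternatingGroup (Fin 6)) :
    Perm (Fin 6)).support.card = 3) : ∃ π : Perm (Fin 6), MulAut.conjNormal π = f := by
  have hcls : ∀ g : alternatingGroup (Fin 6), (g : Perm (Fin 6)).IsThreeCycle →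
      ((f g : alternatingGroup (Fin 6)) : Perm (Fin 6)).IsThreeCycle := by
    intro g hg
    have h3 : g ^ 3 = 1 := Subtype.ext (by
      rw [Subgroup.coe_pow, ← hg.orderOf, pow_orderOf_eq_one]; rfl)
    have hg1 : g ≠ 1 := fun e => by
      have := card_support_eq_three_iff.2 hg
      rw [e] at this
      simp at this
    have ha1 : a6 ^ 3 = 1 ∧ a6 ≠ 1 := by decide +kernel
    obtain ⟨u, hu⟩ := (AltOddAut.classes g h3 hg1).1 (card_support_eq_three_iff.2 hg)
    obtain ⟨v, hv⟩ := (AltOddAut.classes a6 ha1.1 ha1.2).1 supports.1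
    have e : g = (u * v⁻¹) * a6 * (u * v⁻¹)⁻¹ := by rw [← hu, ← hv]; group
    refine card_support_eq_three_iff.1 ?_
    rw [e, map_mul, map_mul, map_inv, AltOddAut.supp_conj, hf]
  obtain ⟨σ, hσ⟩ := AutAlt.exists_conj_of_preserves f (by simp) hcls
  exact ⟨σ, MulEquiv.ext fun a => Subtype.ext (by rw [MulAut.conjNormal_apply]; exact (hσ a).symm)⟩

/-- An automorphism which moves the class of three cycles moves the other class to it. -/
theorem moved_back {f : MulAut (alternatingGroup (Fin 6))} (hf : ((f a6 : alternatingGroup (Fin 6)) :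
    Perm (Fin 6)).support.card ≠ 3) {d : alternatingGroup (Fin 6)} (hd : d ^ 3 = 1) (hd1 : d ≠ 1)
    (hd3 : (d : Perm (Fin 6)).support.card ≠ 3) :
    ((f d : alternatingGroup (Fin 6)) : Perm (Fin 6)).support.card = 3 := by
  by_contra h
  have ha : a6 ^ 3 = 1 ∧ a6 ≠ 1 := by decide +kernel
  obtain ⟨u, hu⟩ := exists_conj_ab (f d) (by rw [← map_pow, hd, map_one]) (fun e => hd1 (f.injective (e.trans f.map_one.symm))) h
  obtain ⟨v, hv⟩ := exists_conj_ab (f a6) (by rw [← map_pow, ha.1, map_one]) (fun e => ha.2 (f.injective (e.trans f.map_one.symm))) hf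
  have e : f (f.symm (u * v⁻¹) * a6 * (f.symm (u * v⁻¹))⁻¹) = f d := by
    rw [map_mul, map_mul, map_inv, f.apply_symm_apply, ← hu, ← hv]; group
  have := congrArg (fun g : alternatingGroup (Fin 6) => (g : Perm (Fin 6)).support.card) (f.injective e)
  simp only [AltOddAut.supp_conj, supports.1] at this
  exact hd3 this.symm

end CfsgLib.PSLThreeSub
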