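import Cfsg.Agent.PSLThreeSub.Small.Action
import Cfsg.Agent.PSLThreeSub.Small.AltSix
import Cfsg.Agent.PGLThree.TypesTrace
import Mathlib.LinearAlgebra.FiniteDimensional.Lemmas

/-!
# The automorphisms of `A₆` induced in dimension three

The commutator `c` of lifts of `(0 1 2)` and `(3 4 5)` is a scalar different from one, fixed by the
normaliser; so no transposition is induced and an automorphism moving the class of three cycles
moves the classes of elements of order five.
-/

set_option autoImplicit false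
set_option linter.unusedSectionVars false

namespace CfsgLib.PSLThreeSub

open Matrix Cfsg.Geo CfsgLib.Aschbacher PGLThree
open scoped commutatorElement

local notation "A6" => alternatingGroup (Fin 6)

variable {E : Type*} [Field E] {H P : Subgroup (GL (Fin 3) E)}

/-- A lift of an element of order three has trace zero. -/
theorem trc_eq_zero_of_three (hc : Core P) (e : (P ⧸ Z P) ≃* A6) {x : P} (h3 : e (proj P x) ^ 3 = 1)
    (hne : e (proj P x) ≠ 1) : trc x = 0 := by
  have hr : IsConj (proj P x) (proj P x)⁻¹ := by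
    simpa using e.symm.toMonoidHom.map_isConj (alt_six_classes (e (proj P x))).2
  obtain ⟨g, h1, h2, h4⟩ := hc.exists_real_lift hr
  have hg3 : g ^ 3 = 1 := h4 3 (e.injective (by rw [map_pow, h3, map_one]))
  have hg1 : g ≠ 1 := fun h => hne (by rw [← h1, h, map_one, map_one])
  have hg : trc g = 0 := trace_of_cube (hc.det_eq_one g.2)
    (by have := trc_inv_of_real h2; rwa [trc_def, trc_def, InvMemClass.coe_inv] at this)
    (by rw [← SubmonoidClass.coe_pow, hg3]; rfl) (fun h => hg1 (Subtype.ext h))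
  have hz : x * g⁻¹ ∈ Z P := proj_eq_one_iff.1 (by rw [map_mul, map_inv, h1, mul_inv_cancel])
  obtain ⟨c, hce⟩ := mem_Z_iff.1 hz
  rw [← inv_mul_cancel_right x g, trc_mul_Z hce, hg, mul_zero]

/-- Nine pairwise orthogonal elements do not commute. -/
theorem not_all_commute (h3 : (3 : E) ≠ 0) {ι : Type*} [Fintype ι] (hι : Fintype.card ι = 9) (g : ι → P)
    (hcomm : ∀ i j, Commute (g i) (g j)) (horth : ∀ i j, i ≠ j → trc (g i * (g j)⁻¹) = 0) (i : ι) :
    g i ∈ Z P := by
  classical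
  let v : ι → Matrix (Fin 3) (Fin 3) E := fun j => mat (g j : GL (Fin 3) E)
  have hli : LinearIndependent E v := by
    rw [Fintype.linearIndependent_iff]
    intro l hl j
    have h := congrArg (fun X : Matrix (Fin 3) (Fin 3) E => (X * mat ((g j)⁻¹ : P).1).trace) hl
    simp only [Finset.sum_mul, Matrix.smul_mul, trace_sum, trace_smul, zero_mul, trace_zero,
      smul_eq_mul] at h
    rw [Finset.sum_eq_single j] at h
    · have e : (v j * mat ((g j)⁻¹ : P).1).trace = 3 := by
        simp only [v]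
        rw [InvMemClass.coe_inv, mat_mul_inv, trace_one]
        simp
      rw [e] at h
      exact (mul_eq_zero.1 h).resolve_right h3
    · intro k _ hk
      have e : (v k * mat ((g j)⁻¹ : P).1).trace = trc (g k * (g j)⁻¹) := rfl
      rw [e, horth k j hk, mul_zero]
    · exact fun h => absurd (Finset.mem_univ j) h
  haveI : Nonempty ι := ⟨i⟩
  have hspan := hli.span_eq_top_of_card_eq_finrank (by
    rw [hι, Module.finrank_matrix, Module.finrank_self]
    simp)
  have hcen : ∀ X : Matrix (Fin 3) (Fin 3) E, X * v i = v i * X := by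
    intro X
    have hX : X ∈ Submodule.span E (Set.range v) := hspan ▸ Submodule.mem_top
    induction hX using Submodule.span_induction with
    | mem x hx =>
      obtain ⟨j, rfl⟩ := hx
      exact congrArg (fun z : P => mat (z : GL (Fin 3) E)) (hcomm j i).eq
    | zero => rw [zero_mul, mul_zero]
    | add x y _ _ hx hy => rw [add_mul, mul_add, hx, hy]
    | smul c x _ hx => rw [smul_mul_assoc, Matrix.mul_smul, hx]
  refine mem_Z_iff.2 ?_
  obtain ⟨c, hc⟩ := Matrix.mem_range_scalar_iff_commute_single'.2 fun k l => hcen (Matrix.single k l 1)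
  exact ⟨c, by rw [Matrix.smul_one_eq_diagonal]; simpa [v] using hc.symm⟩

theorem commutatorElement_mul_scalar {z w x y : GL (Fin 3) E} (hz : z ∈ scalars (Fin 3) E)
    (hw : w ∈ scalars (Fin 3) E) : ⁅z * x, w * y⁆ = ⁅x, y⁆ := by
  simp only [commutatorElement_def]
  calc z * x * (w * y) * (z * x)⁻¹ * (w * y)⁻¹ = z * x * (w * y) * x⁻¹ * z⁻¹ * y⁻¹ * w⁻¹ := by group
    _ = z * (x * w) * y * x⁻¹ * z⁻¹ * y⁻¹ * w⁻¹ := by group
    _ = z * w * (x * y * x⁻¹) * z⁻¹ * y⁻¹ * w⁻¹ := by rw [← scalars_comm (g := x) hw]; group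
    _ = w * (x * y * x⁻¹) * z * z⁻¹ * y⁻¹ * w⁻¹ := by
        rw [mul_assoc z w, scalars_comm (g := w * (x * y * x⁻¹)) hz]
    _ = w * (x * y * x⁻¹ * y⁻¹) * w⁻¹ := by group
    _ = x * y * x⁻¹ * y⁻¹ := by rw [scalars_comm hw, mul_inv_cancel_right]

theorem commutator_identities {G : Type*} [Group G] {A B c : G} (hc : ∀ g, c * g = g * c)
    (h : ⁅A, B⁆ = c) : ⁅A⁻¹, B⁆ = c⁻¹ ∧ ⁅A * B, A⁻¹ * B⁆ = c * c := by
  rw [commutatorElement_def] at h
  have hAB : A * B = c * (B * A) := by rw [← h]; group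
  have hBA : B * A⁻¹ = c * (A⁻¹ * B) :=
    calc B * A⁻¹ = A⁻¹ * (A * B) * A⁻¹ := by group
      _ = A⁻¹ * (c * B) := by rw [hAB]; group
      _ = c * (A⁻¹ * B) := by rw [← mul_assoc, ← hc A⁻¹, mul_assoc]
  constructor
  · simp only [commutatorElement_def, inv_inv]
    calc A⁻¹ * B * A * B⁻¹ = c⁻¹ * (B * A⁻¹) * A * B⁻¹ := by rw [hBA]; group
      _ = c⁻¹ := by group
  · simp only [commutatorElement_def]
    calc A * B * (A⁻¹ * B) * (A * B)⁻¹ * (A⁻¹ * B)⁻¹
        = A * (B * A⁻¹) * B * B⁻¹ * A⁻¹ * B⁻¹ * A := by group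
      _ = A * (c * (A⁻¹ * B)) * B * B⁻¹ * A⁻¹ * B⁻¹ * A := by rw [hBA]
      _ = c * A * (A⁻¹ * B) * A⁻¹ * B⁻¹ * A := by rw [← mul_assoc A c, ← hc A]; group
      _ = c * (B * A⁻¹) * B⁻¹ * A := by group
      _ = c * (c * (A⁻¹ * B)) * B⁻¹ * A := by rw [hBA]
      _ = c * c := by group

/-- The excluded images of the two commuting elements of order three. -/
theorem det_test (hr : Red H P) (h3 : (3 : E) ≠ 0) (e : (P ⧸ Z P) ≃* A6) (ρ : H →* MulAut A6)
    (hρ : ∀ h x, ρ h (e (proj P x)) = e (proj P (conjP hr h x))) {f : MulAut A6} (hf : f ∈ ρ.range) :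
    ¬ (f a6 = a6⁻¹ ∧ f b6 = b6) ∧ ¬ (f a6 = a6 * b6 ∧ f b6 = a6⁻¹ * b6) := by
  obtain ⟨A, hA⟩ : ∃ A, e (proj P A) = a6 := by
    obtain ⟨A, hA⟩ := QuotientGroup.mk'_surjective (Z P) (e.symm a6)
    exact ⟨A, by rw [hA, e.apply_symm_apply]⟩
  obtain ⟨B, hB⟩ : ∃ B, e (proj P B) = b6 := by
    obtain ⟨B, hB⟩ := QuotientGroup.mk'_surjective (Z P) (e.symm b6)
    exact ⟨B, by rw [hB, e.apply_symm_apply]⟩
  have hcZ : ⁅A, B⁆ ∈ Z P := proj_eq_one_iff.1 (e.injective (by
    rw [map_commutatorElement, map_commutatorElement, hA, hB, map_one,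
      commutatorElement_eq_one_iff_mul_comm, ab_comm]))
  have hne : ⁅A, B⁆ ≠ 1 := by
    rw [Ne, commutatorElement_eq_one_iff_mul_comm]
    intro hAB
    let g : Fin 3 × Fin 3 → P := fun ij => A ^ (ij.1 : ℕ) * B ^ (ij.2 : ℕ)
    have hcg : ∀ ij kl, Commute (g ij) (g kl) := fun ij kl => by
      have hc : Commute A B := hAB
      exact Commute.mul_left
        (Commute.mul_right ((Commute.refl A).pow_pow _ _) (hc.pow_pow _ _))
        (Commute.mul_right (hc.symm.pow_pow _ _) ((Commute.refl B).pow_pow _ _))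
    have hz := not_all_commute (E := E) h3 (by simp) g hcg
      (fun ij kl hne => by
        have hi := ab_indep ij.1 ij.2 kl.1 kl.2 hne
        refine trc_eq_zero_of_three hr.core e ?_ ?_ <;>
          simp only [g, map_mul, map_inv, map_pow, hA, hB]
        exacts [hi.1, hi.2]) (1, 0)
    have h1 := (ab_indep 1 0 0 0 (by decide)).2
    simp only [g, Fin.val_one, Fin.val_zero, pow_one, pow_zero, mul_one] at hz
    refine h1 ?_
    simp [← hA, proj_eq_one_iff.2 hz]
  set c : GL (Fin 3) E := ((⁅A, B⁆ : P) : GL (Fin 3) E) with hcdef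
  have hcS : c ∈ scalars (Fin 3) E := Subgroup.mem_subgroupOf.1 hcZ
  have hcAB : ⁅(A : GL (Fin 3) E), (B : GL (Fin 3) E)⁆ = c := by
    simp [hcdef, commutatorElement_def]
  obtain ⟨i1, i2⟩ := commutator_identities (fun g => scalars_comm hcS) hcAB
  have hc3 : c * c * c = 1 := by
    have := congrArg Subtype.val (hr.core.pow_three hcZ)
    rwa [pow_succ, pow_two, Subgroup.coe_mul, Subgroup.coe_mul, OneMemClass.coe_one] at this
  have hc1 : c ≠ 1 := fun h => hne (Subtype.ext h)
  obtain ⟨g, rfl⟩ := hf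
  have key : ∀ U V : P, ρ g a6 = e (proj P U) → ρ g b6 = e (proj P V) →
      ⁅(U : GL (Fin 3) E), (V : GL (Fin 3) E)⁆ = c := by
    intro U V hU hV
    rw [← hA, hρ] at hU
    rw [← hB, hρ] at hV
    have hz : ∀ {x y : P}, proj P x = proj P y → ∃ z ∈ scalars (Fin 3) E, (x : GL (Fin 3) E) = z * y := fun {x y} h =>
      ⟨((x * y⁻¹ : P) : GL (Fin 3) E), Subgroup.mem_subgroupOf.1 (proj_eq_one_iff.1 (by
        rw [map_mul, map_inv, h, mul_inv_cancel])), by simp⟩
    obtain ⟨z, hz', hzU⟩ := hz (e.injective hU)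
    obtain ⟨w, hw', hwV⟩ := hz (e.injective hV)
    rw [← commutatorElement_mul_scalar hz' hw', ← hzU, ← hwV]
    show ⁅(g : GL (Fin 3) E) * A * (g : GL (Fin 3) E)⁻¹, (g : GL (Fin 3) E) * B * (g : GL (Fin 3) E)⁻¹⁆ = c
    have e1 := map_commutatorElement (MulAut.conj (g : GL (Fin 3) E)) (A : GL (Fin 3) E) (B : GL (Fin 3) E)
    simp only [MulAut.conj_apply] at e1
    rw [← e1, hcAB, ← scalars_comm hcS, mul_inv_cancel_right]
  constructor
  · rintro ⟨h1, h2⟩
    have h := key A⁻¹ B (by rw [map_inv, map_inv, hA, h1]) (by rw [hB, h2])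
    rw [Subgroup.coe_inv, i1, inv_eq_iff_mul_eq_one] at h
    exact hc1 (by rwa [h, one_mul] at hc3)
  · rintro ⟨h1, h2⟩
    have h := key (A * B) (A⁻¹ * B) (by rw [map_mul, map_mul, hA, hB, h1])
      (by rw [map_mul, map_mul, map_inv, map_inv, hA, hB, h2])
    rw [Subgroup.coe_mul, Subgroup.coe_mul, Subgroup.coe_inv, i2] at h
    exact hc1 (mul_eq_left.1 h)

variable [Fintype E]

/-- **The automiser of `A₆`.** -/
theorem six_range (p : ℕ) [hp : Fact p.Prime] [CharP E p] (hr : Red H P) (hp3 : p ≠ 3)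
    (e : (P ⧸ Z P) ≃* A6) (ρ : H →* MulAut A6)
    (hρ : ∀ h x, ρ h (e (proj P x)) = e (proj P (conjP hr h x)))
    (hinn : ∀ t : A6, MulAut.conj t ∈ ρ.range) :
    (∀ f ∈ ρ.range, f ∉ (MulAut.conj : A6 →* MulAut A6).range →
      ∀ g ∈ ρ.range, g ∉ (MulAut.conj : A6 →* MulAut A6).range →
        g * f ∈ (MulAut.conj : A6 →* MulAut A6).range) ∧
      (p ≠ 5 → ρ.range ≤ (MulAut.conj : A6 →* MulAut A6).range) := by
  have h3 : (3 : E) ≠ 0 := fun h => hp3 ((Nat.prime_dvd_prime_iff_eq hp.out Nat.prime_three).1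
    ((CharP.cast_eq_zero_iff E p 3).1 (by exact_mod_cast h)))
  set I := (MulAut.conj : A6 →* MulAut A6).range with hI
  have heven : ∀ π : Equiv.Perm (Fin 6), ∀ hπ : Equiv.Perm.sign π = 1,
      MulAut.conjNormal π = MulAut.conj (⟨π, Equiv.Perm.mem_alternatingGroup.2 hπ⟩ : A6) := fun π hπ =>
    MulEquiv.ext fun a => Subtype.ext (by rw [MulAut.conjNormal_apply, MulAut.conj_apply]; rfl)
  -- permutations give inner automorphisms
  have hperm : ∀ f ∈ ρ.range, ((f a6 : A6) : Equiv.Perm (Fin 6)).support.card = 3 → f ∈ I := by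
    intro f hf h
    obtain ⟨π, rfl⟩ := pow_conj_six h
    rcases Int.units_eq_one_or (Equiv.Perm.sign π) with hπ | hπ
    · exact ⟨_, (heven π hπ).symm⟩
    · exfalso
      have hπ' : Equiv.Perm.sign (π * Equiv.swap 1 2) = 1 := by
        rw [map_mul, hπ, Equiv.Perm.sign_swap (by decide)]; decide
      have hs : MulAut.conjNormal (Equiv.swap 1 2 : Equiv.Perm (Fin 6)) ∈ ρ.range := by
        have e' : (MulAut.conjNormal (Equiv.swap 1 2 : Equiv.Perm (Fin 6)) : MulAut A6) =
            (MulAut.conjNormal π)⁻¹ * MulAut.conjNormal (π * Equiv.swap 1 2) := by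
          rw [map_mul, inv_mul_cancel_left]
        rw [e', heven _ hπ']
        exact mul_mem (inv_mem hf) (hinn _)
      exact (det_test hr h3 e ρ hρ hs).1 swap_image
  refine ⟨fun f hf hfI g hg hgI => hperm _ (mul_mem hg hf) ?_, fun hp5 f hf => by_contra fun hfI => ?_⟩
  · rw [MulAut.mul_apply]
    have hf3 : ((f a6 : A6) : Equiv.Perm (Fin 6)).support.card ≠ 3 := fun h => hfI (hperm f hf h)
    have hg3 : ((g a6 : A6) : Equiv.Perm (Fin 6)).support.card ≠ 3 := fun h => hgI (hperm g hg h)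
    have ha : a6 ^ 3 = 1 ∧ a6 ≠ 1 := by decide +kernel
    exact moved_back hg3 (by rw [← map_pow, ha.1, map_one])
      (fun e => ha.2 (f.injective (e.trans f.map_one.symm))) hf3
  · have hf3 : ((f a6 : A6) : Equiv.Perm (Fin 6)).support.card ≠ 3 := fun h => hfI (hperm f hf h)
    have ha : a6 ^ 3 = 1 ∧ a6 ≠ 1 ∧ b6 ^ 3 = 1 ∧ b6 ≠ 1 := by decide +kernel
    obtain ⟨u, hu⟩ := exists_conj_ab (f a6) (by rw [← map_pow, ha.1, map_one])
      (fun e => ha.2.1 (f.injective (e.trans f.map_one.symm))) hf3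
    -- normalise
    set f' := MulAut.conj u⁻¹ * f with hf'def
    have hf' : f' ∈ ρ.range := mul_mem (hinn _) hf
    have hf'a : f' a6 = a6 * b6 := by
      rw [hf'def, MulAut.mul_apply, MulAut.conj_apply, ← hu]; group
    have hb1 : f' b6 ^ 3 = 1 := by rw [← map_pow, ha.2.2.1, map_one]
    have hb2 : f' b6 ≠ 1 := fun e => ha.2.2.2 (f'.injective (e.trans f'.map_one.symm))
    have hb3 : ((f' b6 : A6) : Equiv.Perm (Fin 6)).support.card ≠ 3 := by
      intro h
      obtain ⟨v, hv⟩ := (AltOddAut.classes b6 ha.2.2.1 ha.2.2.2).1 supports.2.1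
      obtain ⟨v', hv'⟩ := (AltOddAut.classes a6 ha.1 ha.2.1).1 supports.1
      have e' : b6 = (v * v'⁻¹) * a6 * (v * v'⁻¹)⁻¹ := by rw [← hv, ← hv']; group
      rw [e', map_mul, map_mul, map_inv, AltOddAut.supp_conj, hf'a] at h
      exact supports.2.2 h
    have hb4 : f' b6 * (a6 * b6) = a6 * b6 * f' b6 := by
      rw [← hf'a, ← map_mul, ← map_mul, ab_comm]
    rcases second_image _ hb1 hb2 hb3 hb4 with h | h | h | h
    · have := f'.injective (h.trans hf'a.symm)
      exact absurd this (by decide +kernel)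
    · rw [← hf'a, ← map_inv] at h
      exact absurd (f'.injective h) (by decide +kernel)
    · obtain ⟨o1, o2, o3, o4⟩ := orders
      obtain ⟨k, hk⟩ := five_image (f' x6) (by rw [← map_pow, o3, map_one])
        (fun e => o4 (f'.injective (e.trans f'.map_one.symm)))
        (by rw [← hf'a, ← map_mul, ← map_pow, o1, map_one])
        (by rw [← h, ← map_mul, ← map_pow, o2, map_one])
      -- lift
      obtain ⟨x, hx⟩ := QuotientGroup.mk'_surjective (Z P) (e.symm x6)
      have hxr : IsConj (proj P x) (proj P x)⁻¹ := by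
        simpa using e.symm.toMonoidHom.map_isConj (alt_six_classes (e (proj P x))).2
      obtain ⟨g₀, g1, g2, g5⟩ := hr.core.exists_real_lift hxr
      have hpx : e (proj P g₀) = x6 := by rw [g1, show proj P x = e.symm x6 from hx, e.apply_symm_apply]
      have hg5 : g₀ ^ 5 = 1 := g5 5 (by rw [← g1]; exact e.injective (by rw [map_pow, hpx, o3, map_one]))
      have ht : trc g₀ = trc (g₀ ^ 2) := trc_eq_of_action hr e ρ hρ hf' (n := 5) (by norm_num) hg5
        (by rw [← pow_mul, mul_comm 2 5, pow_mul, hg5, one_pow])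
        (isConj_iff.2 ⟨k, by rw [map_pow, map_pow, hpx]; exact hk⟩)
      have h1 := eq_one_of_trc p hr.core (n := 5) (by norm_num) (by norm_num) (Ne.symm hp5) hg5
        (trc_inv_of_real g2) ht.symm
      exact o4 (by rw [← hpx, h1, map_one, map_one])
    · exact (det_test hr h3 e ρ hρ hf').2 ⟨hf'a, h⟩

end CfsgLib.PSLThreeSub
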